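import Mathlib
import Cfsg.Agent.SL2C.Normalizer

/-!
The structure of SL₂(3).
-/

set_option autoImplicit false

namespace CfsgLib.KnownB

/-- SL₂(3). -/
abbrev SL23 : Type := Matrix.SpecialLinearGroup (Fin 2) (ZMod 3)

/-- The eight elements with `g⁴ = 1`. -/
def Q8 : Subgroup SL23 where
  carrier := {g | g ^ 4 = 1}
  mul_mem' {a b} ha hb := by
    revert ha hb a b
    decide +kernel
  one_mem' := by decide +kernel
  inv_mem' {a} ha := by
    revert ha a
    decide +kernel

theorem mem_Q8 {g : SL23} : g ∈ Q8 ↔ g ^ 4 = 1 := Iff.rfl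

instance : DecidablePred (· ∈ Q8) := fun g => decidable_of_iff (g ^ 4 = 1) mem_Q8.symm

theorem card_SL23 : Nat.card SL23 = 24 := by
  rw [Nat.card_eq_fintype_card]; decide +kernel

theorem card_Q8 : Nat.card Q8 = 8 := by
  rw [Nat.card_eq_fintype_card]; decide +kernel

theorem commutator_eq_Q8 : commutator SL23 = Q8 := by
  have h1 : ∀ a b : SL23, (a * b * a⁻¹ * b⁻¹) ^ 4 = 1 := by decide +kernel
  have h2 : ∀ h : SL23, h ^ 4 = 1 → ∃ a b : SL23, a * b * a⁻¹ * b⁻¹ = h := by decide +kernel
  refine le_antisymm ?_ fun h hh => ?_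
  · rw [commutator_def, Subgroup.commutator_le]
    intro a _ b _
    rw [mem_Q8, commutatorElement_def]
    exact h1 a b
  · obtain ⟨a, b, rfl⟩ := h2 h hh
    rw [commutator_def, ← commutatorElement_def]
    exact Subgroup.commutator_mem_commutator (Subgroup.mem_top a) (Subgroup.mem_top b)

/-- The images of the generators of the quaternion group. -/
def gi : SL23 := ⟨!![0, -1; 1, 0], by decide +kernel⟩

/-- The second generator. -/
def gj : SL23 := ⟨!![1, 1; 1, -1], by decide +kernel⟩

/-- The map from the quaternion group. -/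
def qFun : QuaternionGroup 2 → SL23
  | QuaternionGroup.a i => gi ^ i.val
  | QuaternionGroup.xa i => gj * gi ^ i.val

theorem quaternion_equiv : Nonempty (Q8 ≃* QuaternionGroup 2) := by
  have hmem : ∀ q, qFun q ∈ Q8 := by decide +kernel
  have hmul : ∀ q r, qFun (q * r) = qFun q * qFun r := by decide +kernel
  have hinj : ∀ q r, qFun q = qFun r → q = r := by decide +kernel
  let f : QuaternionGroup 2 →* Q8 :=
    MonoidHom.mk' (fun q => ⟨qFun q, hmem q⟩) fun q r => Subtype.ext (hmul q r)
  have hf : Function.Bijective f := by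
    refine (Nat.bijective_iff_injective_and_card f).2
      ⟨fun q r e => hinj q r (congrArg Subtype.val e), ?_⟩
    rw [card_Q8, Nat.card_eq_fintype_card, QuaternionGroup.card]
  exact ⟨(MulEquiv.ofBijective f hf).symm⟩

theorem card_center_SL23 : Nat.card (Subgroup.center SL23) = 2 := by
  rw [CfsgLib.SL2C.natCard_center]
  exact CfsgLib.SL2C.card_sgn_odd (by rw [ZMod.card]; decide)

theorem normal_cases (N : Subgroup SL23) (hN : N.Normal) :
    N = ⊥ ∨ N = ⊤ ∨ N = Subgroup.center SL23 ∨ N = Q8 := by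
  have key1 : ∀ g h : SL23, g ^ 4 ≠ 1 → h ^ 4 = 1 →
      ∃ a b : SL23, h = g * a * g⁻¹ * a⁻¹ * (g * b * g⁻¹ * b⁻¹) := by decide +kernel
  have key2 : ∀ g h : SL23, g ^ 4 = 1 → g ^ 2 ≠ 1 → h ^ 4 = 1 →
      ∃ a b : SL23, h = a * g * a⁻¹ * (b * g * b⁻¹) := by decide +kernel
  have key3 : ∀ g : SL23, g ^ 2 = 1 → g = 1 ∨ g = -1 := by decide +kernel
  by_cases h1 : ∃ g ∈ N, g ^ 4 ≠ 1
  · obtain ⟨g, hg, hg4⟩ := h1
    refine Or.inr (Or.inl ?_)
    have hQ : Q8 ≤ N := fun h hh => by
      obtain ⟨a, b, rfl⟩ := key1 g h hg4 hh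
      have hm : ∀ a, g * a * g⁻¹ * a⁻¹ ∈ N := fun a => by
        rw [mul_assoc g a, mul_assoc g]
        exact N.mul_mem hg (hN.conj_mem _ (N.inv_mem hg) a)
      exact N.mul_mem (hm a) (hm b)
    have hlt : Q8 < N := lt_of_le_of_ne hQ fun e => hg4 (by rw [← e] at hg; exact hg)
    have hc : Nat.card Q8 < Nat.card N := by
      have := Subgroup.card_le_card_group Q8
      exact Set.ncard_lt_ncard (s := (Q8 : Set SL23)) hlt
    have hd : Nat.card N ∣ 24 := card_SL23 ▸ Subgroup.card_subgroup_dvd_card N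
    have hd8 : 8 ∣ Nat.card N := card_Q8 ▸ Subgroup.card_dvd_of_le hQ
    rw [card_Q8] at hc
    refine Subgroup.eq_top_of_card_eq N ?_
    rw [card_SL23]
    have := Nat.le_of_dvd (by norm_num) hd
    obtain ⟨k, hk⟩ := hd8
    rw [hk] at hd this hc ⊢
    have hk3 : k = 2 ∨ k = 3 := by omega
    rcases hk3 with rfl | rfl
    · norm_num at hd
    · norm_num
  · push Not at h1
    have hle : N ≤ Q8 := fun g hg => h1 g hg
    by_cases h2 : ∃ g ∈ N, g ^ 2 ≠ 1
    · obtain ⟨g, hg, hg2⟩ := h2
      refine Or.inr (Or.inr (Or.inr (le_antisymm hle fun h hh => ?_)))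
      obtain ⟨a, b, rfl⟩ := key2 g h (h1 g hg) hg2 hh
      exact N.mul_mem (hN.conj_mem g hg a) (hN.conj_mem g hg b)
    · push Not at h2
      have hle' : N ≤ Subgroup.center SL23 := fun g hg => by
        rcases key3 g (h2 g hg) with rfl | rfl
        · exact one_mem _
        · rw [Subgroup.mem_center_iff]
          intro x
          simp
      haveI : Fact (Nat.card (Subgroup.center SL23)).Prime := ⟨by rw [card_center_SL23]; exact Nat.prime_two⟩
      rcases (N.subgroupOf (Subgroup.center SL23)).eq_bot_or_eq_top_of_prime_card with h | h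
      · exact Or.inl ((Subgroup.subgroupOf_eq_bot.1 h).eq_bot_of_le hle')
      · exact Or.inr (Or.inr (Or.inl (le_antisymm hle' (Subgroup.subgroupOf_eq_top.1 h))))

theorem complement (P : Sylow 3 SL23) :
    Subgroup.IsComplement' Q8 (P : Subgroup SL23) := by
  haveI : Fact (Nat.Prime 3) := ⟨Nat.prime_three⟩
  have hP : Nat.card (P : Subgroup SL23) = 3 := by
    rw [Sylow.card_eq_multiplicity, card_SL23, show (24 : ℕ) = 3 * 8 by norm_num,
      Nat.factorization_mul (by norm_num) (by norm_num), Finsupp.add_apply,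
      Nat.prime_three.factorization_self, Nat.factorization_eq_zero_of_not_dvd (by norm_num)]
    rfl
  exact Subgroup.isComplement'_of_coprime (by rw [card_Q8, hP, card_SL23])
    (by rw [card_Q8, hP]; norm_num)

end CfsgLib.KnownB
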