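import Mathlib
import Cfsg.Agent.SpecBlow.AltOrderSpec

/-!
Element orders `r s` and `2 r` in alternating groups.
-/

set_option autoImplicit false

namespace CfsgLib.KnownB

open Equiv

theorem exists_alt_of_cycleType {n : ℕ} (m : Multiset ℕ) (h2 : ∀ a ∈ m, 2 ≤ a) (hsum : m.sum ≤ n)
    (hpar : Even (m.sum + Multiset.card m)) :
    ∃ g : alternatingGroup (Fin n), orderOf g = m.lcm := by
  obtain ⟨σ, hσ⟩ := (Perm.exists_with_cycleType_iff (Fin n) (m := m)).2
    ⟨by rwa [Fintype.card_fin], h2⟩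
  refine ⟨⟨σ, Perm.mem_alternatingGroup.2 ?_⟩, ?_⟩
  · rw [Perm.sign_of_cycleType, hσ, hpar.neg_one_pow]
  · rw [← Subgroup.orderOf_coe, ← Perm.lcm_cycleType, hσ]

theorem alt_rs {n r s : ℕ} (hr : r.Prime) (hs : s.Prime) (hr2 : r ≠ 2) (hs2 : s ≠ 2) (hrs : r ≠ s) :
    (r * s ∈ Set.range (orderOf : alternatingGroup (Fin n) → ℕ)) ↔ r + s ≤ n := by
  constructor
  · rintro ⟨g, hg⟩
    by_contra h
    exact CfsgLib.AltOrderSpec.perm_orderOf_ne hr hs hrs (not_le.1 h) (g : Perm (Fin n))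
      (by rw [Subgroup.orderOf_coe]; exact hg)
  · intro h
    obtain ⟨g, hg⟩ := exists_alt_of_cycleType (n := n) (r ::ₘ s ::ₘ 0)
      (by simp [hr.two_le, hs.two_le]) (by simpa using h) (by
        obtain ⟨a, ha⟩ := hr.odd_of_ne_two hr2
        obtain ⟨b, hb⟩ := hs.odd_of_ne_two hs2
        exact ⟨a + b + 2, by simp; omega⟩)
    refine ⟨g, hg.trans ?_⟩
    rw [Multiset.lcm_cons, Multiset.lcm_cons, Multiset.lcm_zero]
    show Nat.lcm r (Nat.lcm s 1) = r * s
    rw [Nat.lcm_one_right]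
    exact ((Nat.coprime_primes hr hs).2 hrs).lcm_eq_mul

/-- A multiset with an even total `sum + card` and an even member has another even member. -/
theorem exists_even_mem {m : Multiset ℕ} (hpar : ¬ Even (m.sum + Multiset.card m)) :
    ∃ b ∈ m, Even b := by
  induction m using Multiset.induction with
  | empty => simp at hpar
  | cons a m ih =>
    by_cases ha : Even a
    · exact ⟨a, Multiset.mem_cons_self _ _, ha⟩
    · obtain ⟨b, hb, hbe⟩ := ih (fun h => hpar (by
        obtain ⟨k, hk⟩ := h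
        obtain ⟨j, hj⟩ := Nat.not_even_iff_odd.1 ha
        exact ⟨k + j + 1, by simp; omega⟩))
      exact ⟨b, Multiset.mem_cons_of_mem hb, hbe⟩

theorem alt_two_r {n r : ℕ} (hr : r.Prime) (hr2 : r ≠ 2) :
    (2 * r ∈ Set.range (orderOf : alternatingGroup (Fin n) → ℕ)) ↔ r + 4 ≤ n := by
  have hr3 : 3 ≤ r := by have := hr.two_le; omega
  obtain ⟨j, hj⟩ := hr.odd_of_ne_two hr2
  constructor
  · rintro ⟨g, hg⟩
    set σ : Perm (Fin n) := (g : Perm (Fin n))
    have hlcm : σ.cycleType.lcm = 2 * r := by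
      rw [Perm.lcm_cycleType, Subgroup.orderOf_coe, hg]
    have hsum : σ.cycleType.sum ≤ n := by
      rw [Perm.sum_cycleType]
      exact (Finset.card_le_univ _).trans (Fintype.card_fin n).le
    have hpar : Even (σ.cycleType.sum + Multiset.card σ.cycleType) := by
      by_contra h
      have hsign : Perm.sign σ = 1 := Perm.mem_alternatingGroup.1 g.2
      rw [Perm.sign_of_cycleType, (Nat.not_even_iff_odd.1 h).neg_one_pow] at hsign
      exact absurd hsign (by decide)
    obtain ⟨a, ha, h2a⟩ := CfsgLib.AltOrderSpec.exists_mem_dvd_of_dvd_lcm Nat.prime_two σ.cycleType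
      (hlcm ▸ dvd_mul_right 2 r)
    obtain ⟨c, hc, hrc⟩ := CfsgLib.AltOrderSpec.exists_mem_dvd_of_dvd_lcm hr σ.cycleType
      (hlcm ▸ dvd_mul_left r 2)
    have ha2 : 2 ≤ a := Perm.two_le_of_mem_cycleType ha
    have hc2 : 2 ≤ c := Perm.two_le_of_mem_cycleType hc
    have hcr : r ≤ c := Nat.le_of_dvd (by omega) hrc
    obtain ⟨m, hm⟩ := Multiset.exists_cons_of_mem ha
    rw [hm, Multiset.sum_cons] at hsum
    obtain ⟨b, hb, hbe⟩ := exists_even_mem (m := m) (by
      rintro ⟨k, hk⟩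
      obtain ⟨l, hl⟩ := hpar
      rw [hm, Multiset.sum_cons, Multiset.card_cons] at hl
      omega)
    have hb2 : 2 ≤ b := Perm.two_le_of_mem_cycleType (σ := σ) (hm ▸ Multiset.mem_cons_of_mem hb)
    obtain ⟨m', hm'⟩ := Multiset.exists_cons_of_mem hb
    rw [hm', Multiset.sum_cons] at hsum
    have key : ∀ e, 2 ∣ e → r ∣ e → 2 ≤ e → 2 * r ≤ e := fun e h1 h2 h3 =>
      Nat.le_of_dvd (by omega)
        (((Nat.coprime_primes Nat.prime_two hr).2 (Ne.symm hr2)).mul_dvd_of_dvd_of_dvd h1 h2)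
    rw [hm, hm', Multiset.mem_cons, Multiset.mem_cons] at hc
    rcases hc with rfl | rfl | hc
    · have := key c h2a hrc hc2
      omega
    · have := key c (even_iff_two_dvd.1 hbe) hrc hc2
      omega
    · have := Multiset.le_sum_of_mem hc
      omega
  · intro h
    obtain ⟨g, hg⟩ := exists_alt_of_cycleType (n := n) (r ::ₘ 2 ::ₘ 2 ::ₘ 0)
      (by simp [hr.two_le]) (by simpa using h) ⟨j + 4, by simp; omega⟩
    refine ⟨g, hg.trans ?_⟩
    rw [Multiset.lcm_cons, Multiset.lcm_cons, Multiset.lcm_cons, Multiset.lcm_zero]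
    have h22 : GCDMonoid.lcm (2 : ℕ) (GCDMonoid.lcm (2 : ℕ) 1) = 2 := by decide
    rw [h22]
    exact ((Nat.coprime_primes hr Nat.prime_two).2 hr2).lcm_eq_mul.trans (mul_comm _ _)

end CfsgLib.KnownB
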