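import Mathlib

/-!
The flag of iterated fixed spaces of a p-group of matrices in characteristic p.
-/

set_option autoImplicit false

namespace CfsgLib.KnownB

open Matrix

variable {F : Type*} [Field F] {n : ℕ} (U : Subgroup (Matrix.SpecialLinearGroup (Fin n) F))

/-- The vectors moved by `U` only within `W`. -/
def nextFix (W : Submodule F (Fin n → F)) : Submodule F (Fin n → F) where
  carrier := {v | ∀ u ∈ U, (u : Matrix (Fin n) (Fin n) F) *ᵥ v - v ∈ W}
  add_mem' {v w} hv hw u hu := by
    rw [Matrix.mulVec_add, add_sub_add_comm]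
    exact W.add_mem (hv u hu) (hw u hu)
  zero_mem' u hu := by simp
  smul_mem' c v hv u hu := by
    rw [Matrix.mulVec_smul, ← smul_sub]
    exact W.smul_mem c (hv u hu)

theorem mem_nextFix {W : Submodule F (Fin n → F)} {v : Fin n → F} :
    v ∈ nextFix U W ↔ ∀ u ∈ U, (u : Matrix (Fin n) (Fin n) F) *ᵥ v - v ∈ W := Iff.rfl

theorem nextFix_mono {W W' : Submodule F (Fin n → F)} (h : W ≤ W') : nextFix U W ≤ nextFix U W' :=
  fun _ hv u hu => h (hv u hu)

/-- The iterated fixed spaces. -/
def fixChain (i : ℕ) : Submodule F (Fin n → F) := (nextFix U)^[i] ⊥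

theorem fixChain_zero : fixChain U 0 = ⊥ := rfl

theorem fixChain_succ (i : ℕ) : fixChain U (i + 1) = nextFix U (fixChain U i) :=
  Function.iterate_succ_apply' _ _ _

theorem fixChain_le_succ : ∀ i, fixChain U i ≤ fixChain U (i + 1)
  | 0 => bot_le
  | i + 1 => by
    rw [fixChain_succ U i, fixChain_succ U (i + 1)]
    exact nextFix_mono U (fixChain_le_succ i)

theorem mulVec_mem_fixChain (i : ℕ) {u : Matrix.SpecialLinearGroup (Fin n) F} (hu : u ∈ U)
    {v : Fin n → F} (hv : v ∈ fixChain U i) :
    (u : Matrix (Fin n) (Fin n) F) *ᵥ v ∈ fixChain U i := by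
  have h := fixChain_le_succ U i hv
  rw [fixChain_succ, mem_nextFix] at h
  have h1 := (fixChain U i).add_mem (h u hu) hv
  rwa [sub_add_cancel] at h1

theorem map_fixChain (i : ℕ) {g : Matrix.SpecialLinearGroup (Fin n) F}
    (hg : g ∈ Subgroup.normalizer (U : Set (Matrix.SpecialLinearGroup (Fin n) F))) :
    ∀ v ∈ fixChain U i, (g : Matrix (Fin n) (Fin n) F) *ᵥ v ∈ fixChain U i := by
  induction i with
  | zero =>
    intro v hv
    rw [fixChain_zero, Submodule.mem_bot] at hv ⊢
    rw [hv, Matrix.mulVec_zero]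
  | succ i ih =>
    intro v hv
    rw [fixChain_succ, mem_nextFix] at hv ⊢
    intro u hu
    have hu' : g⁻¹ * u * g ∈ U := by
      have := (Subgroup.mem_normalizer_iff''.1 hg u).1 hu
      simpa using this
    have h1 := ih _ (hv _ hu')
    rw [Matrix.mulVec_sub, Matrix.mulVec_mulVec, ← Matrix.SpecialLinearGroup.coe_mul,
      show g * (g⁻¹ * u * g) = u * g by group, Matrix.SpecialLinearGroup.coe_mul,
      ← Matrix.mulVec_mulVec] at h1
    exact h1

theorem map_mulVecLin_fixChain (i : ℕ) {g : Matrix.SpecialLinearGroup (Fin n) F}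
    (hg : g ∈ Subgroup.normalizer (U : Set (Matrix.SpecialLinearGroup (Fin n) F))) :
    (fixChain U i).map (Matrix.mulVecLin (g : Matrix (Fin n) (Fin n) F)) = fixChain U i := by
  refine le_antisymm ?_ fun v hv => ?_
  · rintro _ ⟨v, hv, rfl⟩
    exact map_fixChain U i hg v hv
  · refine ⟨_, map_fixChain U i (inv_mem hg) v hv, ?_⟩
    rw [Matrix.mulVecLin_apply, Matrix.mulVec_mulVec, ← Matrix.SpecialLinearGroup.coe_mul,
      mul_inv_cancel, Matrix.SpecialLinearGroup.coe_one, Matrix.one_mulVec]

variable [Fintype F] (p : ℕ) [hp : Fact p.Prime] [CharP F p]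

/-- A p-group cannot fix nothing new above a proper invariant subspace. -/
theorem fixChain_lt_succ (hU : IsPGroup p ↥U) {i : ℕ} (hi : fixChain U i ≠ ⊤) :
    fixChain U i < fixChain U (i + 1) := by
  set W := fixChain U i
  letI : MulAction U ((Fin n → F) ⧸ W) :=
    { smul := fun u => W.mapQ W (Matrix.mulVecLin ((u : Matrix.SpecialLinearGroup (Fin n) F) :
        Matrix (Fin n) (Fin n) F)) (fun v hv => mulVec_mem_fixChain U i u.2 hv)
      one_smul := fun x => by
        induction x using Submodule.Quotient.induction_on with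
        | _ v =>
          show Submodule.Quotient.mk _ = Submodule.Quotient.mk v
          simp
      mul_smul := fun a b x => by
        induction x using Submodule.Quotient.induction_on with
        | _ v =>
          show Submodule.Quotient.mk _ = Submodule.Quotient.mk _
          simp [Matrix.mulVec_mulVec] }
  have hq : p ∣ Nat.card ((Fin n → F) ⧸ W) := by
    haveI : Nontrivial ((Fin n → F) ⧸ W) := Submodule.Quotient.nontrivial_iff.2 hi
    haveI := Fintype.ofFinite ((Fin n → F) ⧸ W)
    obtain ⟨k, -, hF⟩ := FiniteField.card F p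
    rw [Module.natCard_eq_pow_finrank (K := F), Nat.card_eq_fintype_card, hF, ← pow_mul]
    exact dvd_pow_self p (Nat.mul_ne_zero k.ne_zero (Module.finrank_pos).ne')
  obtain ⟨x, hx, hx0⟩ := hU.exists_fixed_point_of_prime_dvd_card_of_fixed_point
    ((Fin n → F) ⧸ W) hq (a := 0) (fun u => map_zero (W.mapQ W _ _))
  refine lt_of_le_of_ne (fixChain_le_succ U i) fun h => hx0 ?_
  induction x using Submodule.Quotient.induction_on with
  | _ v =>
    have hv : v ∈ fixChain U (i + 1) := by
      rw [fixChain_succ, mem_nextFix]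
      intro u hu
      have := hx ⟨u, hu⟩
      exact (Submodule.Quotient.eq _).1 this
    rw [← h] at hv
    exact ((Submodule.Quotient.mk_eq_zero _).2 hv).symm

theorem exists_flag (hU : IsPGroup p ↥U) (hne : U ≠ ⊥) :
    ∃ (k : ℕ) (V : Fin (k + 2) → Submodule F (Fin n → F)), 1 ≤ k ∧ StrictMono V ∧ V 0 = ⊥ ∧
      V (Fin.last (k + 1)) = ⊤ ∧
      (∀ g ∈ Subgroup.normalizer (U : Set (Matrix.SpecialLinearGroup (Fin n) F)), ∀ i,
        (V i).map (Matrix.mulVecLin (g : Matrix (Fin n) (Fin n) F)) = V i) ∧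
      (∀ u ∈ U, ∀ i : Fin (k + 1), ∀ v ∈ V i.succ,
        (u : Matrix (Fin n) (Fin n) F).mulVec v - v ∈ V (Fin.castSucc i)) := by
  classical
  have htop : ∃ i, fixChain U i = ⊤ := by
    by_contra h
    push Not at h
    obtain ⟨a, b, hab, heq⟩ := Finite.exists_ne_map_eq_of_infinite (fixChain U)
    exact hab ((strictMono_nat_of_lt_succ (f := fixChain U) fun i =>
      fixChain_lt_succ U p hU (h i)).injective heq)
  set L := Nat.find htop
  have hL : fixChain U L = ⊤ := Nat.find_spec htop
  have hlt : ∀ i < L, fixChain U i ≠ ⊤ := fun i hi => Nat.find_min htop hi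
  have hL2 : 2 ≤ L := by
    by_contra hcon
    have h1 : fixChain U 1 = ⊤ := by
      rcases Nat.eq_zero_or_pos L with h | h
      · rw [h] at hL
        exact top_le_iff.1 (hL ▸ fixChain_le_succ U 0)
      · rwa [show L = 1 by omega] at hL
    apply hne
    rw [Subgroup.eq_bot_iff_forall]
    intro u hu
    apply Subtype.ext
    refine Matrix.ext_of_mulVec_single fun j => ?_
    have hj : (Pi.single j 1 : Fin n → F) ∈ fixChain U 1 := h1 ▸ Submodule.mem_top
    rw [fixChain_succ, mem_nextFix, fixChain_zero] at hj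
    rw [Matrix.SpecialLinearGroup.coe_one, Matrix.one_mulVec]
    exact sub_eq_zero.1 ((Submodule.mem_bot _).1 (hj u hu))
  refine ⟨L - 1, fun i => fixChain U i.1, by omega, ?_, rfl, ?_,
    fun g hg i => map_mulVecLin_fixChain U i.1 hg, ?_⟩
  · refine Fin.strictMono_iff_lt_succ.2 fun i => ?_
    simp only [Fin.val_castSucc, Fin.val_succ]
    exact fixChain_lt_succ U p hU (hlt _ (by omega))
  · simp only [Fin.val_last]
    rwa [show L - 1 + 1 = L by omega]
  · intro u hu i v hv
    simp only [Fin.val_castSucc, Fin.val_succ] at hv ⊢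
    rw [fixChain_succ, mem_nextFix] at hv
    exact hv u hu

end CfsgLib.KnownB
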