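import Mathlib

/-!
An abelian permutation group is inverted by some permutation.
-/

set_option autoImplicit false

namespace CfsgLib.KnownB

open Equiv

variable {α : Type*}

theorem exists_inverting (P : Subgroup (Perm α)) (hP : IsMulCommutative P) :
    ∃ x : Perm α, x * x = 1 ∧ ∀ y ∈ P, x * y * x⁻¹ = y⁻¹ := by
  classical
  letI s : Setoid α := MulAction.orbitRel P α
  have comm : ∀ a ∈ P, ∀ b ∈ P, a * b = b * a := fun a ha b hb =>
    congrArg Subtype.val (hP.is_comm.comm (⟨a, ha⟩ : P) ⟨b, hb⟩)
  -- a base point in every orbit and an element reaching each point from it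
  let base : α → α := fun a => (Quotient.mk s a).out
  have hbase : ∀ (z : P) (a : α), base ((z : Perm α) a) = base a := fun z a =>
    congrArg Quotient.out (Quotient.sound (MulAction.mem_orbit a z))
  have hex : ∀ a : α, ∃ y : P, (y : Perm α) (base a) = a := fun a => by
    obtain ⟨y, hy⟩ := (Quotient.mk_out (s := s) a : s (Quotient.mk s a).out a)
    exact ⟨y⁻¹, by
      rw [Subgroup.coe_inv]
      show ((y : Perm α))⁻¹ (base a) = a
      rw [Perm.inv_eq_iff_eq]
      exact hy.symm⟩
  choose y hy using hex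
  have key : ∀ (a : α) (z : Perm α), z ∈ P → z (base a) = a →
      (y a : Perm α)⁻¹ (base a) = z⁻¹ (base a) := by
    intro a z hz h
    have h1 : (y a : Perm α)⁻¹ (z (base a)) = base a := by
      rw [h, Perm.inv_eq_iff_eq, hy a]
    rw [← Perm.mul_apply, comm _ (inv_mem (y a).2) _ hz, Perm.mul_apply] at h1
    exact Perm.eq_inv_iff_eq.2 h1
  let f : α → α := fun a => (y a : Perm α)⁻¹ (base a)
  have hfz : ∀ z ∈ P, ∀ a, f (z a) = z⁻¹ (f a) := by
    intro z hz a
    show (y (z a) : Perm α)⁻¹ (base (z a)) = _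
    have hb := hbase ⟨z, hz⟩ a
    simp only at hb
    rw [key (z a) (z * y a) (mul_mem hz (y a).2) (by rw [hb, Perm.mul_apply, hy a]), hb,
      _root_.mul_inv_rev, comm _ (inv_mem (y a).2) _ (inv_mem hz), Perm.mul_apply]
  have hff : ∀ a, f (f a) = a := by
    intro a
    have hfb : f (base a) = base a := by
      show (y (base a) : Perm α)⁻¹ (base (base a)) = base a
      have hb : base (base a) = base a := by
        conv_rhs => rw [← hy a]
        rw [hbase]
      rw [key (base a) 1 (one_mem _) (by rw [hb, Perm.one_apply]), hb, inv_one, Perm.one_apply]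
    show f ((y a : Perm α)⁻¹ (base a)) = a
    rw [hfz _ (inv_mem (y a).2), hfb, inv_inv, hy a]
  let x : Perm α := ⟨f, f, hff, hff⟩
  refine ⟨x, Equiv.ext hff, fun z hz => Equiv.ext fun a => ?_⟩
  show f (z (f a)) = z⁻¹ a
  rw [hfz z hz, hff]

end CfsgLib.KnownB
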