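import Mathlib
import Cfsg.Prelude.Def_Sporadic
import Cfsg.Prelude.Def_Classical

/-!
If `p³` exactly divides the order of an alternating or sporadic group (`p` odd), it is less than
the 2-part.
-/

set_option autoImplicit false

namespace CfsgLib.KnownB

/-- The primes dividing the orders of the sporadic groups lie in this list. -/
def sporPrimes : List ℕ := [2, 3, 5, 7, 11, 13, 17, 19, 23, 29, 31, 37, 41, 43, 47, 59, 67, 71]

theorem cube_lt_of_check {N : ℕ} (hN : N ≠ 0) (hdvd : N ∣ sporPrimes.prod ^ 50)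
    (hcheck : ∀ q ∈ sporPrimes, q ≠ 2 → q ^ 3 ∣ N → ¬ q ^ 4 ∣ N →
      2 ^ (Nat.log 2 (q ^ 3) + 1) ∣ N)
    {p : ℕ} (hp : p.Prime) (hodd : p ≠ 2) (h3 : N.factorization p = 3) :
    p ^ 3 < 2 ^ N.factorization 2 := by
  have hd3 : p ^ 3 ∣ N := h3 ▸ Nat.ordProj_dvd N p
  have hd4 : ¬ p ^ 4 ∣ N := by
    rw [hp.pow_dvd_iff_le_factorization hN, h3]
    omega
  have hmem : p ∈ sporPrimes := by
    obtain ⟨q, hq, hpq⟩ := hp.prime.dvd_prod_iff.1
      (hp.dvd_of_dvd_pow (((dvd_pow_self p (by norm_num)).trans hd3).trans hdvd))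
    have hqp : q.Prime := by
      simp only [sporPrimes, List.mem_cons, List.not_mem_nil, or_false] at hq
      rcases hq with rfl | rfl | rfl | rfl | rfl | rfl | rfl | rfl | rfl | rfl | rfl | rfl | rfl |
        rfl | rfl | rfl | rfl | rfl <;> norm_num
    rwa [(Nat.prime_dvd_prime_iff_eq hp hqp).1 hpq]
  have h := hcheck p hmem hodd hd3 hd4
  rw [Nat.prime_two.pow_dvd_iff_le_factorization hN] at h
  exact lt_of_lt_of_le (Nat.lt_pow_succ_log_self one_lt_two _)
    (Nat.pow_le_pow_right two_pos h)

theorem cube_lt_spor {G : Type*} [Group G] (hG : Cfsg.IsSporadic G) {p : ℕ} (hp : p.Prime)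
    (hodd : p ≠ 2) (h3 : (Nat.card G).factorization p = 3) :
    p ^ 3 < 2 ^ (Nat.card G).factorization 2 := by
  rcases hG with h | h | h | h | h | h | h | h | h | h | h | h | h | h | h | h | h | h | h | h | h |
    h | h | h | h | h
  all_goals
    obtain ⟨-, hcard⟩ := h
    rw [hcard] at h3 ⊢
    exact cube_lt_of_check (by norm_num) (by decide +kernel) (by decide +kernel) hp hodd h3

theorem cube_lt_four_pow : ∀ p : ℕ, 5 ≤ p → p ^ 3 < 4 ^ p := by
  intro p hp
  induction p, hp using Nat.le_induction with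
  | base => norm_num
  | succ p hp ih =>
    have h1 : (p + 1) ^ 3 ≤ 4 * p ^ 3 := by
      have h2 : 5 * p ≤ p * p := Nat.mul_le_mul_right p hp
      nlinarith [h2, Nat.mul_le_mul_right p h2]
    calc (p + 1) ^ 3 ≤ 4 * p ^ 3 := h1
      _ < 4 * 4 ^ p := by omega
      _ = 4 ^ (p + 1) := by rw [pow_succ']

theorem two_mul_card_alt {n : ℕ} (hn : 2 ≤ n) :
    2 * Nat.card (alternatingGroup (Fin n)) = n.factorial := by
  haveI : Nontrivial (Fin n) := Fin.nontrivial_iff_two_le.2 hn
  rw [Nat.card_eq_fintype_card, two_mul_card_alternatingGroup, Fintype.card_perm, Fintype.card_fin]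

theorem cube_lt_alt {n : ℕ} (hn : 5 ≤ n) {p : ℕ} (hp : p.Prime) (hodd : p ≠ 2)
    (h3 : (Nat.card (alternatingGroup (Fin n))).factorization p = 3) :
    p ^ 3 < 2 ^ (Nat.card (alternatingGroup (Fin n))).factorization 2 := by
  haveI : Fact p.Prime := ⟨hp⟩
  set A := Nat.card (alternatingGroup (Fin n))
  have hA : A ≠ 0 := Nat.card_pos.ne'
  have hfac : ∀ q : ℕ, n.factorial.factorization q = (if q = 2 then 1 else 0) + A.factorization q := by
    intro q
    rw [← two_mul_card_alt (by omega : 2 ≤ n), Nat.factorization_mul two_ne_zero hA,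
      Finsupp.add_apply, Nat.prime_two.factorization, Finsupp.single_apply]
    simp [eq_comm]
  have hp3 : n.factorial.factorization p = 3 := by rw [hfac p, if_neg hodd, h3]
  have hp5 : 5 ≤ p ∨ p = 3 := by
    have := hp.two_le
    by_cases h : p = 4
    · subst h; norm_num at hp
    · omega
  rw [Nat.factorization_def _ hp, padicValNat_factorial (b := n + 1)
    (Nat.lt_succ_of_le (Nat.log_le_self _ _))] at hp3
  rcases hp5 with hp5 | rfl
  · -- `n ≥ 3p`
    have hn3 : 3 * p ≤ n := by
      by_contra hcon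
      rw [Finset.sum_eq_single_of_mem 1 (Finset.mem_Ico.2 ⟨le_rfl, by omega⟩) (fun b hb hb1 => ?_)]
        at hp3
      · rw [pow_one] at hp3
        have := Nat.div_mul_le_self n p
        rw [hp3] at this
        omega
      · apply Nat.div_eq_of_lt
        have hb2 : 2 ≤ b := by have := (Finset.mem_Ico.1 hb).1; omega
        calc n < p * p := by
              have : 5 * p ≤ p * p := Nat.mul_le_mul_right p hp5
              omega
          _ = p ^ 2 := by rw [pow_two]
          _ ≤ p ^ b := Nat.pow_le_pow_right hp.pos hb2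
    have h2 : 2 * p + 1 ≤ n.factorial.factorization 2 := by
      rw [Nat.factorization_def _ Nat.prime_two, padicValNat_factorial (p := 2) (b := n + 1)
        (Nat.lt_succ_of_le (Nat.log_le_self _ _))]
      refine le_trans ?_ (Finset.sum_le_sum_of_subset (s := {1, 2, 3}) ?_)
      · simp
        omega
      · intro x hx
        simp at hx
        simp
        omega
    rw [hfac 2, if_pos rfl] at h2
    calc p ^ 3 < 4 ^ p := cube_lt_four_pow p hp5
      _ = 2 ^ (2 * p) := by rw [pow_mul]; norm_num
      _ ≤ _ := Nat.pow_le_pow_right two_pos (by omega)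
  · exfalso
    rcases Nat.lt_or_ge n 9 with h | h
    · interval_cases n <;> simp [Finset.sum_Ico_eq_sum_range, Finset.sum_range_succ] at hp3
    · have := Finset.sum_le_sum_of_subset (f := fun i => n / 3 ^ i) (s := {1, 2})
        (t := Finset.Ico 1 (n + 1)) (fun x hx => by simp at hx; simp; omega)
      simp at this
      omega

end CfsgLib.KnownB
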