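import Cfsg.Agent.Classical.LinearOrder
import Mathlib.GroupTheory.Sylow
import Mathlib.NumberTheory.LegendreSymbol.Basic
import Mathlib.LinearAlgebra.Matrix.NonsingularInverse

/-!
# Sylow 2-subgroups of PGL(2,q), q a Mersenne prime, meet non-trivially
-/

set_option autoImplicit false

namespace CfsgLib.KnownB.SylowMeet

open Matrix
open scoped MatrixGroups Pointwise

variable {F : Type*} [Field F]

/-- The rotation of order four. -/
def J : Matrix (Fin 2) (Fin 2) F := !![0, 1; -1, 0]

theorem J_sq : (J : Matrix (Fin 2) (Fin 2) F) * J = -1 := by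
  ext i j; fin_cases i <;> fin_cases j <;> simp [J]

/-- The normaliser of the torus of `J`. -/
def D (F : Type*) [Field F] : Subgroup (GL (Fin 2) F) where
  carrier := {g | J * (g : Matrix (Fin 2) (Fin 2) F) = (g : Matrix (Fin 2) (Fin 2) F) * J ∨
    J * (g : Matrix (Fin 2) (Fin 2) F) = -((g : Matrix (Fin 2) (Fin 2) F) * J)}
  one_mem' := Or.inl (by simp)
  mul_mem' {a b} ha hb := by
    simp only [Set.mem_ofPred_eq, Units.val_mul] at *
    rcases ha with ha | ha <;> rcases hb with hb | hb
    · exact Or.inl (by rw [← mul_assoc, ha, mul_assoc, hb, ← mul_assoc])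
    · exact Or.inr (by rw [← mul_assoc, ha, mul_assoc, hb, mul_neg, ← mul_assoc])
    · exact Or.inr (by rw [← mul_assoc, ha, neg_mul, mul_assoc, hb, ← mul_assoc])
    · exact Or.inl (by rw [← mul_assoc, ha, neg_mul, mul_assoc, hb, mul_neg, neg_neg, ← mul_assoc])
  inv_mem' {a} ha := by
    simp only [Set.mem_ofPred_eq] at *
    rcases ha with ha | ha
    · refine Or.inl ?_
      have h := congrArg (fun M => ((a⁻¹ : GL (Fin 2) F) : Matrix (Fin 2) (Fin 2) F) * M *
        ((a⁻¹ : GL (Fin 2) F) : Matrix (Fin 2) (Fin 2) F)) ha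
      simp only [mul_assoc, Units.mul_inv, mul_one] at h
      rw [← mul_assoc ((a⁻¹ : GL (Fin 2) F) : Matrix (Fin 2) (Fin 2) F) (a : Matrix (Fin 2) (Fin 2) F),
        Units.inv_mul, one_mul] at h
      exact h.symm
    · refine Or.inr ?_
      have h := congrArg (fun M => ((a⁻¹ : GL (Fin 2) F) : Matrix (Fin 2) (Fin 2) F) * M *
        ((a⁻¹ : GL (Fin 2) F) : Matrix (Fin 2) (Fin 2) F)) ha
      simp only [mul_assoc, Units.mul_inv, mul_one, neg_mul, mul_neg] at h
      rw [← mul_assoc ((a⁻¹ : GL (Fin 2) F) : Matrix (Fin 2) (Fin 2) F) (a : Matrix (Fin 2) (Fin 2) F),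
        Units.inv_mul, one_mul] at h
      rw [h, neg_neg]

theorem mem_D {g : GL (Fin 2) F} : g ∈ D F ↔
    (J * (g : Matrix (Fin 2) (Fin 2) F) = (g : Matrix (Fin 2) (Fin 2) F) * J ∨
      J * (g : Matrix (Fin 2) (Fin 2) F) = -((g : Matrix (Fin 2) (Fin 2) F) * J)) := Iff.rfl

theorem center_le_D : Subgroup.center (GL (Fin 2) F) ≤ D F := by
  intro g hg
  rw [Matrix.GeneralLinearGroup.center_eq_range_scalar] at hg
  obtain ⟨u, rfl⟩ := hg
  refine Or.inl ?_
  have h : ((Matrix.GeneralLinearGroup.scalar (Fin 2) u : GL (Fin 2) F) : Matrix (Fin 2) (Fin 2) F) =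
      Matrix.scalar (Fin 2) (u : F) := rfl
  rw [h]
  exact ((Matrix.scalar_commute (u : F) (fun _ => Commute.all _ _) J).eq).symm

theorem mem_center_of_scalar {g : GL (Fin 2) F} {c : F}
    (h : (g : Matrix (Fin 2) (Fin 2) F) = Matrix.scalar (Fin 2) c) :
    g ∈ Subgroup.center (GL (Fin 2) F) := by
  rw [Subgroup.mem_center_iff]
  intro x
  apply Units.ext
  rw [Units.val_mul, Units.val_mul, h]
  exact (Matrix.scalar_commute c (fun _ => Commute.all _ _) _).eq.symm

variable (hns : ∀ a b : F, a ^ 2 + b ^ 2 = 0 → a = 0 ∧ b = 0)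

include hns in
theorem card_D [Fintype F] (h2 : (2 : F) ≠ 0) :
    Nat.card (D F) = 2 * (Fintype.card F ^ 2 - 1) := by
  classical
  have hcard : Nat.card (Bool × {p : F × F // p ≠ 0}) = 2 * (Fintype.card F ^ 2 - 1) := by
    rw [Nat.card_eq_fintype_card, Fintype.card_prod, Fintype.card_bool, Fintype.card_subtype_compl,
      Fintype.card_subtype_eq, Fintype.card_prod, sq]
  rw [← hcard]
  let mk : Bool × F × F → Matrix (Fin 2) (Fin 2) F := fun p =>
    if p.1 then !![p.2.1, p.2.2; -p.2.2, p.2.1] else !![p.2.1, p.2.2; p.2.2, -p.2.1]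
  have hdet : ∀ p : Bool × {p : F × F // p ≠ 0}, (mk (p.1, p.2.1)).det ≠ 0 := by
    rintro ⟨e, ⟨a, b⟩, hab⟩ h
    refine hab (Prod.ext ?_ ?_) <;>
      (cases e <;> simp [mk, Matrix.det_fin_two_of] at h) <;>
      (
        have hs : a ^ 2 + b ^ 2 = 0 := by
          first
            | linear_combination h
            | linear_combination (-1 : F) * h) <;>
      simp [(hns a b hs).1, (hns a b hs).2]
  have hmem : ∀ p : Bool × {p : F × F // p ≠ 0},
      Matrix.GeneralLinearGroup.mkOfDetNeZero _ (hdet p) ∈ D F := by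
    rintro ⟨e, ⟨a, b⟩, hab⟩
    cases e
    · refine Or.inr ?_
      change J * mk (false, a, b) = -(mk (false, a, b) * J)
      ext i j; fin_cases i <;> fin_cases j <;> simp [mk, J]
    · refine Or.inl ?_
      change J * mk (true, a, b) = mk (true, a, b) * J
      ext i j; fin_cases i <;> fin_cases j <;> simp [mk, J]
  refine (Nat.card_congr (Equiv.ofBijective
    (fun p : Bool × {p : F × F // p ≠ 0} => (⟨_, hmem p⟩ : D F)) ⟨?_, ?_⟩)).symm
  · rintro ⟨e, ⟨a, b⟩, hab⟩ ⟨e', ⟨a', b'⟩, hab'⟩ h
    have hm : mk (e, a, b) = mk (e', a', b') := congrArg (fun g : D F => (g.1 : Matrix (Fin 2) (Fin 2) F)) h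
    have h00 := congrFun (congrFun hm 0) 0
    have h01 := congrFun (congrFun hm 0) 1
    have h11 := congrFun (congrFun hm 1) 1
    have h10 := congrFun (congrFun hm 1) 0
    have ha : a = a' := by cases e <;> cases e' <;> simpa [mk] using h00
    have hb : b = b' := by cases e <;> cases e' <;> simpa [mk] using h01
    subst ha hb
    cases e <;> cases e' <;> simp [mk] at h10 h11 ⊢
    all_goals
      exfalso
      refine hab (Prod.ext ?_ ?_)
      · change a = 0
        have : 2 * a = 0 := by
          first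
            | linear_combination h11
            | linear_combination (-1 : F) * h11
        first
          | exact (mul_eq_zero.1 this).resolve_left h2
      · change b = 0
        have : 2 * b = 0 := by
          first
            | linear_combination h10
            | linear_combination (-1 : F) * h10
        exact (mul_eq_zero.1 this).resolve_left h2
  · rintro ⟨g, hg⟩
    have hd : (g : Matrix (Fin 2) (Fin 2) F).det ≠ 0 :=
      ((Matrix.isUnit_iff_isUnit_det _).1 g.isUnit).ne_zero
    have hne : ((g : Matrix (Fin 2) (Fin 2) F) 0 0, (g : Matrix (Fin 2) (Fin 2) F) 0 1) ≠ (0 : F × F) := by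
      intro h
      rw [Prod.ext_iff] at h
      simp only [Prod.fst_zero, Prod.snd_zero] at h
      rw [Matrix.det_fin_two, h.1, h.2] at hd
      simp at hd
    rcases mem_D.1 hg with hh | hh
    · refine ⟨(true, ⟨_, hne⟩), Subtype.ext (Units.ext ?_)⟩
      change mk (true, _, _) = _
      have h00 := congrFun (congrFun hh 0) 0
      have h01 := congrFun (congrFun hh 0) 1
      simp [J, Matrix.mul_apply, Fin.sum_univ_two] at h00 h01
      ext i j; fin_cases i <;> fin_cases j <;> simp [mk, h00, h01]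
    · refine ⟨(false, ⟨_, hne⟩), Subtype.ext (Units.ext ?_)⟩
      change mk (false, _, _) = _
      have h00 := congrFun (congrFun hh 0) 0
      have h01 := congrFun (congrFun hh 0) 1
      simp [J, Matrix.mul_apply, Fin.sum_univ_two] at h00 h01
      ext i j; fin_cases i <;> fin_cases j <;> simp [mk, h00, h01]

include hns in
theorem exists_mem_meet (h2 : (2 : F) ≠ 0) (g : GL (Fin 2) F) :
    ∃ u ∈ D F, u ∉ Subgroup.center (GL (Fin 2) F) ∧ g⁻¹ * u * g ∈ D F := by
  let G : Matrix (Fin 2) (Fin 2) F := g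
  let G' : Matrix (Fin 2) (Fin 2) F := ((g⁻¹ : GL (Fin 2) F) : Matrix (Fin 2) (Fin 2) F)
  have hG : G * G' = 1 := Units.mul_inv g
  have hG' : G' * G = 1 := Units.inv_mul g
  let K : Matrix (Fin 2) (Fin 2) F := G * J * G'
  have hKK : K * K = -1 := by
    calc K * K = G * J * (G' * G) * J * G' := by simp only [K, mul_assoc]
      _ = G * (J * J) * G' := by rw [hG', mul_one]; simp only [mul_assoc]
      _ = -1 := by rw [J_sq, mul_neg, mul_one, neg_mul, hG]
  let C : Matrix (Fin 2) (Fin 2) F := J * K - K * J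
  have hJC : J * C = -(C * J) := by
    simp only [C, mul_sub, sub_mul, ← mul_assoc, J_sq]
    rw [mul_assoc K J J, J_sq]
    simp only [mul_neg, neg_mul, one_mul, mul_one]
    abel
  have hKC : K * C = -(C * K) := by
    simp only [C, mul_sub, sub_mul, ← mul_assoc, hKK]
    rw [mul_assoc J K K, hKK]
    simp only [mul_neg, neg_mul, one_mul, mul_one]
    abel
  by_cases hC : C = 0
  · -- `K` commutes with `J`, so `g` normalises the torus and `J` itself is shared
    have hcomm : J * K = K * J := sub_eq_zero.1 hC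
    refine ⟨Matrix.GeneralLinearGroup.mkOfDetNeZero J (by simp [J, Matrix.det_fin_two_of]),
      Or.inl rfl, ?_, ?_⟩
    · intro hc
      rw [Matrix.GeneralLinearGroup.center_eq_range_scalar] at hc
      obtain ⟨u, hu⟩ := hc
      have := congrFun (congrFun (congrArg (fun x : GL (Fin 2) F => (x : Matrix (Fin 2) (Fin 2) F)) hu) 0) 1
      simp [J, Matrix.GeneralLinearGroup.scalar] at this
    · refine Or.inl ?_
      change J * (G' * J * G) = G' * J * G * J
      calc J * (G' * J * G) = G' * (K * J) * G := by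
            simp only [K, ← mul_assoc, hG', one_mul]
        _ = G' * (J * K) * G := by rw [hcomm]
        _ = G' * J * G * J := by
            simp only [K, ← mul_assoc]
            rw [mul_assoc (G' * J * G * J) G' G, hG', mul_one]
  · have hcs : ∀ i j : Fin 2, ((J : Matrix (Fin 2) (Fin 2) F) * C) i j = -((C * (J : Matrix (Fin 2) (Fin 2) F)) i j) := fun i j => by rw [hJC]; rfl
    have e00 := hcs 0 0
    have e01 := hcs 0 1
    simp [J, Matrix.mul_apply, Fin.sum_univ_two] at e00 e01
    have hdet : C.det ≠ 0 := by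
      intro h
      rw [Matrix.det_fin_two] at h
      have hsum : C 0 0 ^ 2 + C 0 1 ^ 2 = 0 := by
        have h11 : C 1 1 = -C 0 0 := by linear_combination (norm := ring_nf) e01
        have h10 : C 1 0 = C 0 1 := by linear_combination (norm := ring_nf) e00
        rw [h11, h10] at h
        linear_combination (norm := ring_nf) (-1 : F) * h
      obtain ⟨h00, h01⟩ := hns _ _ hsum
      apply hC
      ext i j
      fin_cases i <;> fin_cases j
      · exact h00
      · exact h01
      · change C 1 0 = 0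
        linear_combination (norm := ring_nf) e00 + h01
      · change C 1 1 = 0
        linear_combination (norm := ring_nf) e01 - h00
    refine ⟨Matrix.GeneralLinearGroup.mkOfDetNeZero C hdet, Or.inr hJC, ?_, Or.inr ?_⟩
    · intro hc
      rw [Matrix.GeneralLinearGroup.center_eq_range_scalar] at hc
      obtain ⟨u, hu⟩ := hc
      have hu' : Matrix.scalar (Fin 2) (u : F) = C :=
        congrArg (fun x : GL (Fin 2) F => (x : Matrix (Fin 2) (Fin 2) F)) hu
      rw [← hu', ← (Matrix.scalar_commute (u : F) (fun _ => Commute.all _ _) J).eq] at hJC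
      have := congrFun (congrFun hJC 0) 1
      simp [J, Matrix.mul_apply, Fin.sum_univ_two] at this
      have h' : (2 : F) * u = 0 := by linear_combination (norm := ring_nf) this
      exact u.ne_zero ((mul_eq_zero.1 h').resolve_left h2)
    · change J * (G' * C * G) = -(G' * C * G * J)
      calc J * (G' * C * G) = G' * (K * C) * G := by
            simp only [K, ← mul_assoc, hG', one_mul]
        _ = G' * -(C * K) * G := by rw [hKC]
        _ = -(G' * C * G * J) := by
            simp only [K, mul_neg, neg_mul, ← mul_assoc]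
            rw [mul_assoc (G' * C * G * J) G' G, hG', mul_one]

theorem meet {q k : ℕ} [Fact q.Prime] (hk : q + 1 = 2 ^ k) (hq : 7 ≤ q)
    (H : Sylow 2 (GL (Fin 2) (ZMod q) ⧸ Subgroup.center (GL (Fin 2) (ZMod q))))
    (x : GL (Fin 2) (ZMod q) ⧸ Subgroup.center (GL (Fin 2) (ZMod q))) :
    (H : Subgroup (GL (Fin 2) (ZMod q) ⧸ Subgroup.center (GL (Fin 2) (ZMod q)))) ⊓
      MulAut.conj x • (H : Subgroup _) ≠ ⊥ := by
  classical
  let Q := GL (Fin 2) (ZMod q) ⧸ Subgroup.center (GL (Fin 2) (ZMod q))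
  let π : GL (Fin 2) (ZMod q) →* Q := QuotientGroup.mk' _
  have : Fact (2 < q) := ⟨by omega⟩
  have h2 : (2 : ZMod q) ≠ 0 := Ring.two_ne_zero (by rw [ZMod.ringChar_zmod_n]; omega)
  have h4 : q % 4 = 3 := by
    have : 4 ∣ 2 ^ k := by
      rcases k with _ | _ | k
      · omega
      · omega
      · exact ⟨2 ^ k, by ring⟩
    omega
  have hns : ∀ a b : ZMod q, a ^ 2 + b ^ 2 = 0 → a = 0 ∧ b = 0 := by
    intro a b h
    by_cases hb : b = 0
    · subst hb; simpa using h
    · exfalso
      have hsq : IsSquare (-1 : ZMod q) := ⟨a / b, by field_simp; linear_combination (-1 : ZMod q) * h⟩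
      exact ZMod.exists_sq_eq_neg_one_iff.1 hsq h4
  -- the normaliser of the torus gives a Sylow 2-subgroup
  let Dq : Subgroup Q := (D (ZMod q)).map π
  have hsurj : Function.Surjective π := QuotientGroup.mk'_surjective _
  have hidx : Dq.index = (D (ZMod q)).index :=
    Subgroup.index_map_eq _ hsurj (by rw [QuotientGroup.ker_mk']; exact center_le_D)
  have hD := card_D hns h2
  have hG : Nat.card (GL (Fin 2) (ZMod q)) = (q ^ 2 - 1) * (q * (q - 1)) := by
    rw [Matrix.card_GL_field]
    simp only [Fin.prod_univ_two, ZMod.card, Fin.val_zero, Fin.val_one, pow_zero, pow_one]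
    rw [sq, Nat.mul_sub q q 1, mul_one]
  rw [ZMod.card] at hD
  have hZ : Nat.card (Subgroup.center (GL (Fin 2) (ZMod q))) = q - 1 := by
    rw [CfsgLib.Linear.card_center_GL, Nat.card_zmod]
  have hi := Subgroup.card_mul_index (D (ZMod q))
  rw [hD, hG] at hi
  have hq2 : 0 < q ^ 2 - 1 := by
    have : 49 ≤ q ^ 2 := by nlinarith
    omega
  have hindex : 2 * (D (ZMod q)).index = q * (q - 1) := by
    refine mul_left_cancel₀ hq2.ne' ?_
    rw [← hi]; ring
  have hodd : ¬ 2 ∣ (D (ZMod q)).index := by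
    obtain ⟨j, hj⟩ : ∃ j, q = 4 * j + 3 := ⟨q / 4, by omega⟩
    have h' : q * (q - 1) = 2 * ((4 * j + 3) * (2 * j + 1)) := by
      rw [hj, show 4 * j + 3 - 1 = 2 * (2 * j + 1) by omega]; ring
    have : (D (ZMod q)).index = (4 * j + 3) * (2 * j + 1) := by omega
    rw [this]
    rintro ⟨t, ht⟩
    have : (2 * (4 * j * j + 5 * j + 1) + 1) = 2 * t := by linarith
    omega
  have hQ : Nat.card Q * (q - 1) = (q ^ 2 - 1) * (q * (q - 1)) := by
    rw [← hG, ← hZ]
    exact (Subgroup.card_eq_card_quotient_mul_card_subgroup _).symm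
  have hDq : Nat.card Dq = 2 ^ (k + 1) := by
    have h1 := Subgroup.card_mul_index Dq
    rw [hidx] at h1
    have hQ' : Nat.card Q = (q ^ 2 - 1) * q := Nat.eq_of_mul_eq_mul_right (by omega : 0 < q - 1)
      (by rw [hQ]; ring)
    have hne : (D (ZMod q)).index ≠ 0 := fun h0 => hodd (by rw [h0]; exact dvd_zero 2)
    refine Nat.eq_of_mul_eq_mul_right (Nat.pos_of_ne_zero hne) ?_
    rw [h1, hQ', pow_succ 2 k, ← hk]
    have : q ^ 2 - 1 = (q + 1) * (q - 1) := by
      obtain ⟨t, rfl⟩ : ∃ t, q = t + 1 := ⟨q - 1, by omega⟩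
      simp only [Nat.add_sub_cancel]
      rw [Nat.sub_eq_iff_eq_add (Nat.one_le_pow _ _ (by omega))]
      ring
    rw [this, mul_assoc, mul_comm (q - 1) q, ← hindex]
    ring
  have hp : IsPGroup 2 Dq := IsPGroup.of_card hDq
  let S₀ : Sylow 2 Q := IsPGroup.toSylow hp (by rwa [hidx])
  obtain ⟨y, hy⟩ := MulAction.exists_smul_eq Q S₀ H
  have hH : (H : Subgroup Q) = MulAut.conj y • Dq := by
    rw [← hy]; rfl
  obtain ⟨g, hg⟩ := hsurj (y⁻¹ * x * y)
  obtain ⟨u, hu, hnc, hu'⟩ := exists_mem_meet hns h2 g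
  rw [Subgroup.ne_bot_iff_exists_ne_one]
  have hm : y * π u * y⁻¹ ∈ (H : Subgroup Q) ⊓ MulAut.conj x • (H : Subgroup Q) := by
    refine Subgroup.mem_inf.2 ⟨?_, ?_⟩
    · rw [hH, Subgroup.mem_pointwise_smul_iff_inv_smul_mem]
      rw [← map_inv, MulAut.smul_def, MulAut.conj_apply]
      refine ⟨u, hu, ?_⟩
      group
    · rw [hH, ← mul_smul, ← map_mul, Subgroup.mem_pointwise_smul_iff_inv_smul_mem, ← map_inv,
        MulAut.smul_def, MulAut.conj_apply]
      refine ⟨g⁻¹ * u * g, hu', ?_⟩
      rw [map_mul, map_mul, map_inv, hg]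
      group
  refine ⟨⟨_, hm⟩, fun h => hnc ?_⟩
  have h1 : y * π u * y⁻¹ = 1 := congrArg Subtype.val h
  rw [mul_inv_eq_one, mul_eq_left] at h1
  exact (QuotientGroup.eq_one_iff u).1 h1

end CfsgLib.KnownB.SylowMeet
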