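import Mathlib
import Cfsg.Agent.Spectrum.MatrixOrder

/-!
Orders of unipotent matrices.
-/

set_option autoImplicit false

namespace CfsgLib.KnownB

open Matrix

variable {F : Type*} [Field F] {p : ℕ} [hp : Fact p.Prime] [CharP F p]

theorem orderOf_lt_of_pElement {m : ℕ} (hm : 1 ≤ m) (g : GL (Fin m) F)
    (hg : ∃ j : ℕ, orderOf g = p ^ j) : orderOf g < p * m := by
  obtain ⟨j, hj⟩ := hg
  haveI : Nonempty (Fin m) := ⟨⟨0, hm⟩⟩
  have hnil : IsNilpotent ((g : Matrix (Fin m) (Fin m) F) - 1) := by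
    refine ⟨p ^ j, ?_⟩
    rw [sub_pow_char_pow_of_commute p _ (Commute.one_right _), one_pow, ← hj,
      ← Units.val_pow_eq_pow_val, pow_orderOf_eq_one, Units.val_one, sub_self]
  have hpow : ((g : Matrix (Fin m) (Fin m) F) - 1) ^ m = 0 := by
    have h := Matrix.aeval_self_charpoly ((g : Matrix (Fin m) (Fin m) F) - 1)
    have hc := sub_eq_zero.1 (Matrix.isNilpotent_charpoly_sub_pow_of_isNilpotent hnil).eq_zero
    rw [hc, Fintype.card_fin] at h
    simpa using h
  set K := Nat.clog p m with hK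
  have hmK : m ≤ p ^ K := Nat.le_pow_clog hp.out.one_lt m
  have h1 : g ^ p ^ K = 1 := by
    apply Units.ext
    rw [Units.val_pow_eq_pow_val, Units.val_one,
      show (g : Matrix (Fin m) (Fin m) F) = 1 + ((g : Matrix (Fin m) (Fin m) F) - 1) by abel,
      add_pow_char_pow_of_commute p _ (Commute.one_left _), one_pow,
      pow_eq_zero_of_le hmK hpow, add_zero]
  refine lt_of_le_of_lt (Nat.le_of_dvd (pow_pos hp.out.pos _) (orderOf_dvd_of_pow_eq_one h1)) ?_
  rcases Nat.lt_or_ge 1 m with h | h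
  · have hlt := Nat.pow_pred_clog_lt_self hp.out.one_lt h
    rw [← hK] at hlt
    have hK0 : 0 < K := Nat.clog_pos hp.out.one_lt h
    calc p ^ K = p * p ^ K.pred := by
          rw [← pow_succ', Nat.pred_eq_sub_one, Nat.sub_add_cancel hK0]
      _ < p * m := (Nat.mul_lt_mul_left hp.out.pos).2 hlt
  · rw [hK, show m = 1 by omega, Nat.clog_one_right, pow_zero]
    simpa using hp.out.one_lt

theorem exists_large_pElement {m : ℕ} (hm : 1 ≤ m) :
    ∃ g : GL (Fin m) F, (∃ j : ℕ, orderOf g = p ^ j) ∧ m ≤ orderOf g := by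
  have hK : Nat.clog p m = 0 ∨ p ^ (Nat.clog p m - 1) < m := by
    rcases Nat.lt_or_ge 1 m with h | h
    · exact Or.inr (Nat.pow_pred_clog_lt_self hp.out.one_lt h)
    · exact Or.inl (by rw [show m = 1 by omega, Nat.clog_one_right])
  have hord := CfsgLib.MatOrder.orderOf_regUnipotent (R := F) (p := p) hm
    (Nat.le_pow_clog hp.out.one_lt m) hK
  refine ⟨Matrix.SpecialLinearGroup.toGL (CfsgLib.MatOrder.regUnipotent (R := F) m),
    ⟨Nat.clog p m, ?_⟩, ?_⟩
  · rw [orderOf_injective _ Matrix.SpecialLinearGroup.toGL_injective, hord]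
  · rw [orderOf_injective _ Matrix.SpecialLinearGroup.toGL_injective, hord]
    exact Nat.le_pow_clog hp.out.one_lt m

end CfsgLib.KnownB
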